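import Cfsg.Agent.H514.K547.Defs
import Cfsg.Agent.Characters.Permutation
import Cfsg.Agent.OddOrderCharacters.IndRes
import Cfsg.Agent.OddOrderCharacters.Clifford
import Cfsg.Agent.S0161

/-!
# Task 5107 (S4547, [J1]), part 1: the group `N C_L(Q)` and the quotient of odd order (helper898)

`L` finite, `N` normal of odd index, `P` a Sylow 2-subgroup of `L`: `KK P N = N C_L(P)` is normal and invariant under
the automorphisms of `L` which fix `N`.
-/

set_option autoImplicit false
set_option linter.unusedSectionVars false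

namespace Cfsg.Agent.H898.K547

open Cfsg Subgroup

universe u

variable {L : Type u} [Group L] [Finite L]

theorem two_fact : Fact (Nat.Prime 2) := ⟨Nat.prime_two⟩

theorem sylow_le (P : Sylow 2 L) (N : Subgroup L) [N.Normal] (h : ¬ 2 ∣ N.index) : (P : Subgroup L) ≤ N := by
  have := two_fact
  intro y hy
  obtain ⟨n, hn⟩ := IsPGroup.iff_orderOf.1 P.2 ⟨y, hy⟩
  rw [Subgroup.orderOf_mk] at hn
  have h1 : orderOf (y : L ⧸ N) ∣ 2 ^ n := by
    rw [← hn]
    exact orderOf_map_dvd (QuotientGroup.mk' N) y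
  have h2 : orderOf (y : L ⧸ N) ∣ N.index := by
    rw [Subgroup.index_eq_card]
    exact orderOf_dvd_natCard _
  have h3 : Nat.Coprime (2 ^ n) N.index := Nat.Coprime.pow_left n ((Nat.Prime.coprime_iff_not_dvd Nat.prime_two).2 h)
  have h4 := Nat.dvd_gcd h1 h2
  rw [Nat.Coprime.gcd_eq_one h3, Nat.dvd_one, orderOf_eq_one_iff, QuotientGroup.eq_one_iff] at h4
  exact h4

/-- `N C(P)` -/
def KK (P : Sylow 2 L) (N : Subgroup L) : Subgroup L := N ⊔ centralizer ((P : Subgroup L) : Set L)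

theorem KK_normal (P : Sylow 2 L) (N : Subgroup L) [N.Normal] (h : ¬ 2 ∣ N.index) : (KK P N).Normal := by
  have := two_fact
  have key : ∀ g ∈ normalizer ((P : Subgroup L) : Set L), ∀ c ∈ KK P N, g * c * g⁻¹ ∈ KK P N := by
    intro g hg
    have h1 : KK P N ≤ (KK P N).comap (MulAut.conj g).toMonoidHom := by
      refine sup_le (fun n hn => ?_) (fun c hc => ?_)
      · exact mem_sup_left (Normal.conj_mem inferInstance n hn g)
      · refine mem_sup_right ?_
        rw [mem_centralizer_iff] at hc ⊢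
        intro y hy
        have h2 : g⁻¹ * y * g ∈ ((P : Subgroup L) : Set L) := by
          have h3 := (mem_normalizer_iff.1 (inv_mem hg) y).1 hy
          rwa [inv_inv] at h3
        have h4 := hc _ h2
        change y * (g * c * g⁻¹) = g * c * g⁻¹ * y
        calc y * (g * c * g⁻¹) = g * ((g⁻¹ * y * g) * c) * g⁻¹ := by group
          _ = g * (c * (g⁻¹ * y * g)) * g⁻¹ := by rw [h4]
          _ = g * c * g⁻¹ * y := by group
    exact fun c hc => h1 hc
  rw [← normalizer_eq_top_iff, eq_top_iff, ← Sylow.normalizer_sup_eq_top' P (sylow_le P N h)]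
  refine sup_le (fun g hg => ?_) (le_trans le_sup_left le_normalizer)
  rw [mem_normalizer_iff]
  intro c
  refine ⟨key g hg c, fun hc => ?_⟩
  have h1 := key _ (inv_mem hg) _ hc
  have h2 : g⁻¹ * (g * c * g⁻¹) * g⁻¹⁻¹ = c := by group
  rwa [h2] at h1

/-- `N C(P)` is invariant under the automorphisms fixing `N` -/
theorem KK_inv (P : Sylow 2 L) (N : Subgroup L) [N.Normal] (h : ¬ 2 ∣ N.index) (τ : MulAut L)
    (hτ : ∀ n ∈ N, τ n ∈ N) : ∀ c ∈ KK P N, τ c ∈ KK P N := by
  have := two_fact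
  have hK := KK_normal P N h
  have h1 : KK P N ≤ (KK P N).comap τ.toMonoidHom := by
    refine sup_le (fun n hn => mem_sup_left (hτ n hn)) (fun c hc => ?_)
    obtain ⟨g, hg⟩ := MulAction.exists_smul_eq L P (τ • P)
    have h2 : g⁻¹ * τ c * g⁻¹⁻¹ ∈ KK P N := by
      refine mem_sup_right ?_
      rw [mem_centralizer_iff] at hc ⊢
      intro y hy
      have h3 : g * y * g⁻¹ ∈ (τ • P : Sylow 2 L) := by
        rw [← hg, Sylow.smul_def]
        exact ⟨y, hy, rfl⟩
      obtain ⟨y', hy', h4⟩ := h3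
      have h5 := congrArg τ (hc y' hy')
      rw [map_mul, map_mul] at h5
      have h6 : τ y' = g * y * g⁻¹ := h4
      rw [h6] at h5
      calc y * (g⁻¹ * τ c * g⁻¹⁻¹) = g⁻¹ * (g * y * g⁻¹ * τ c) * g := by group
        _ = g⁻¹ * (τ c * (g * y * g⁻¹)) * g := by rw [h5]
        _ = g⁻¹ * τ c * g⁻¹⁻¹ * y := by group
    have h3 := hK.conj_mem _ h2 g
    have h4 : g * (g⁻¹ * τ c * g⁻¹⁻¹) * g⁻¹ = τ c := by group
    rw [h4] at h3
    exact h3
  exact fun c hc => h1 hc

theorem map_eq_of_inv (τ : MulAut L) {K : Subgroup L} (h : ∀ c ∈ K, τ c ∈ K) : K.map (τ : L ≃* L).toMonoidHom = K := by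
  refine Subgroup.eq_of_le_of_card_ge ?_ ?_
  · rintro _ ⟨c, hc, rfl⟩
    exact h c hc
  · rw [Subgroup.card_map_of_injective (τ : L ≃* L).injective]

/-- the automorphism of the quotient -/
noncomputable def qAut (τ : MulAut L) (K : Subgroup L) [K.Normal] (h : ∀ c ∈ K, τ c ∈ K) : (L ⧸ K) ≃* (L ⧸ K) :=
  QuotientGroup.congr K K (τ : L ≃* L) (map_eq_of_inv τ h)

theorem qAut_mk (τ : MulAut L) (K : Subgroup L) [K.Normal] (h : ∀ c ∈ K, τ c ∈ K) (g : L) :
    qAut τ K h (g : L ⧸ K) = ((τ g : L) : L ⧸ K) := rfl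

/-- an automorphism with a nontrivial fixed point fixes a nontrivial irreducible character -/
theorem exists_fixed_irr {X : Type u} [Group X] [Finite X] (e : X ≃* X) {y : X} (hy : e y = y) (hy1 : y ≠ 1) :
    ∃ ψ : X → ℂ, IsIrrCharacter X ψ ∧ ψ ≠ (fun _ => 1) ∧ ∀ z, ψ (e z) = ψ z := by
  classical
  have hfin : Finite (IrrCharacter X) := Characters.Core.finite_irr
  let σ : IrrCharacter X → IrrCharacter X := fun χ =>
    ⟨fun g => (χ : X → ℂ) (e.symm g), Characters.Core.isIrr_comp e.symm.toMonoidHom e.symm.surjective χ.2⟩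
  let m : X →* X := e.toMonoidHom
  let m' : X →* X := e.symm.toMonoidHom
  let τ : Equiv.Perm (ConjClasses X) :=
    { toFun := ConjClasses.map m
      invFun := ConjClasses.map m'
      left_inv := by
        intro c
        obtain ⟨a, rfl⟩ := ConjClasses.exists_rep c
        change ConjClasses.mk (e.symm (e a)) = ConjClasses.mk a
        rw [e.symm_apply_apply]
      right_inv := by
        intro c
        obtain ⟨a, rfl⟩ := ConjClasses.exists_rep c
        change ConjClasses.mk (e (e.symm a)) = ConjClasses.mk a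
        rw [e.apply_symm_apply] }
  have key := Characters.Permutation.card_fixed_eq σ τ (by
    intro χ g g' h
    have h1 : ConjClasses.mk g' = ConjClasses.mk (e g) := h
    rw [ConjClasses.mk_eq_mk_iff_isConj, isConj_iff] at h1
    obtain ⟨c, hc⟩ := h1
    change (χ : X → ℂ) (e.symm g') = (χ : X → ℂ) g
    have h2 : g = e.symm c * e.symm g' * (e.symm c)⁻¹ := by
      rw [← map_mul, ← map_inv, ← map_mul, hc, e.symm_apply_apply]
    rw [h2]
    exact (Characters.Core.isIrr_isClassFunction χ.2 _ _).symm)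
  have h2 : 1 < Nat.card {C : ConjClasses X // τ C = C} := by
    rw [Finite.one_lt_card_iff_nontrivial]
    refine ⟨⟨ConjClasses.mk 1, ?_⟩, ⟨ConjClasses.mk y, ?_⟩, fun h => hy1 ?_⟩
    · change ConjClasses.mk (e 1) = _
      rw [map_one]
    · change ConjClasses.mk (e y) = _
      rw [hy]
    · have h3 := congrArg Subtype.val h
      rw [ConjClasses.mk_eq_mk_iff_isConj, isConj_iff] at h3
      obtain ⟨c, hc⟩ := h3
      rw [← hc]
      group
  rw [← key] at h2
  have : Nontrivial {χ : IrrCharacter X // σ χ = χ} := Finite.one_lt_card_iff_nontrivial.1 h2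
  have hone : IsIrrCharacter X (fun _ : X => (1 : ℂ)) := Characters.Core.isIrr_one
  have hσ1 : σ ⟨fun _ => 1, hone⟩ = ⟨fun _ => 1, hone⟩ := rfl
  obtain ⟨⟨χ, hχ⟩, hne⟩ := exists_ne (⟨⟨fun _ => 1, hone⟩, hσ1⟩ : {χ : IrrCharacter X // σ χ = χ})
  refine ⟨χ, χ.2, fun h => hne (Subtype.ext (Subtype.ext h)), fun z => ?_⟩
  have h3 := congrFun (congrArg Subtype.val hχ) (e z)
  change (χ : X → ℂ) (e.symm (e z)) = _ at h3
  rw [e.symm_apply_apply] at h3
  exact h3.symm

/-- an automorphism `e` without fixed points: `e(l) l⁻¹ ∈ T` implies `l ∈ T` for an `e`-invariant subgroup `T` -/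
theorem mem_of_div {X : Type u} [Group X] [Finite X] (e : X ≃* X) (h1 : ∀ y, e y = y → y = 1) {T : Subgroup X}
    (hT : ∀ t ∈ T, e t ∈ T) {l : X} (hl : e l * l⁻¹ ∈ T) : l ∈ T := by
  have hinj : ∀ a b : X, e a * a⁻¹ = e b * b⁻¹ → a = b := by
    intro a b h
    have h2 : e (b⁻¹ * a) = b⁻¹ * a := by
      rw [map_mul, map_inv, inv_mul_eq_iff_eq_mul, ← mul_assoc, ← mul_inv_eq_iff_eq_mul, h]
    have h3 := h1 _ h2
    rwa [inv_mul_eq_one, eq_comm] at h3
  let f : T → T := fun t => ⟨e t * (t : X)⁻¹, T.mul_mem (hT t t.2) (T.inv_mem t.2)⟩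
  have hf : Function.Injective f := fun a b h => Subtype.ext (hinj _ _ (congrArg Subtype.val h))
  obtain ⟨t, ht⟩ := (Finite.injective_iff_surjective.1 hf) ⟨_, hl⟩
  have h2 := hinj _ _ (congrArg Subtype.val ht)
  rw [← h2]
  exact t.2

end Cfsg.Agent.H898.K547
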